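import Groth.Agent.S0516
import Groth.Agent.S0538
import Groth.Agent.S0539
import Groth.Agent.HenselLib.HenselizationExists
import Groth.Agent.AlgSpLib.ReducedStalk
import Groth.Agent.FFDescLib.Closure
import Groth.Agent.FFDescLib.EtaleGraph
import Groth.Prelude.Def_Pi1

/-! # Closures of clopen pieces across points with connected punctured strict henselization -/

set_option autoImplicit false
set_option linter.style.haveILetI false
set_option backward.isDefEq.respectTransparency false
set_option backward.isDefEq.respectTransparency.types false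
set_option maxHeartbeats 1000000

universe u

open CategoryTheory hiding IsConnected
open CategoryTheory.Limits AlgebraicGeometry TopologicalSpace

noncomputable section

namespace ConnInfLib

/-- A point in the closed fibre of a finite étale algebra over a strictly henselian ring gives a retraction. -/
theorem exists_retraction (R B : Type u) [CommRing R] [HenselianLocalRing R]
    [IsSepClosed (IsLocalRing.ResidueField R)] [CommRing B] [Algebra R B] [Module.Finite R B] [Algebra.Etale R B]
    (q : PrimeSpectrum B) (hq : q.asIdeal.comap (algebraMap R B) = IsLocalRing.maximalIdeal R) :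
    ∃ π : B →ₐ[R] R, RingHom.ker π ≤ q.asIdeal := by
  obtain ⟨ι, _, A, _, _, B', _, _, hA, hB', ⟨e⟩⟩ := Groth.Agent.S0516.result R B
  haveI : Module.Finite R B' := Module.Finite.of_surjective
    ((AlgHom.snd R (∀ i, A i) B').comp e.toAlgHom).toLinearMap
    (Prod.snd_surjective.comp e.surjective)
  haveI : Subsingleton B' := by
    by_contra h
    rw [not_subsingleton_iff_nontrivial] at h
    obtain ⟨m, hm⟩ := Ideal.exists_maximal B'
    haveI := hm.1
    have := IsLocalRing.eq_maximalIdeal (Ideal.isMaximal_comap_of_isIntegral_of_isMaximal (R := R) m)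
    exact hm.1.ne_top (top_le_iff.1 (hB' ▸ Ideal.map_le_iff_le_comap.2 this.ge))
  haveI := q.isPrime
  classical
  let pr : ∀ i, B →ₐ[R] A i := fun i => ((Pi.evalAlgHom R A i).comp (AlgHom.fst R (∀ i, A i) B')).comp e.toAlgHom
  obtain ⟨i, hi⟩ : ∃ i, RingHom.ker (pr i) ≤ q.asIdeal := by
    by_contra h
    simp only [not_exists, SetLike.not_le_iff_exists] at h
    choose b hb hbq using h
    have h0 : ∏ i, b i = 0 := e.injective (Prod.ext (funext fun j => by
      rw [map_prod, map_zero, Prod.fst_prod, Finset.prod_apply]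
      exact Finset.prod_eq_zero (Finset.mem_univ j) (hb j)) (Subsingleton.elim _ _))
    obtain ⟨i, -, hi⟩ := Ideal.IsPrime.prod_mem_iff.1 (h0 ▸ q.asIdeal.zero_mem : ∏ i, b i ∈ q.asIdeal)
    exact hbq i hi
  have hsur : Function.Surjective (algebraMap R (A i)) := hA i
  haveI : Nontrivial (A i) := by
    by_contra h
    rw [not_nontrivial_iff_subsingleton] at h
    exact q.isPrime.ne_top (top_le_iff.1 fun b _ => hi (Subsingleton.elim (pr i b) 0))
  haveI : Module.Finite R (A i) := Module.Finite.of_surjective (Algebra.linearMap R (A i)) hsur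
  haveI : Module.Flat R B := inferInstance
  haveI : Module.Flat R (A i) := by
    let sec : A i →ₗ[R] B :=
      e.symm.toLinearMap.comp ((LinearMap.inl R (∀ i, A i) B').comp (LinearMap.single R A i))
    exact Module.Flat.of_retract sec (pr i).toLinearMap (LinearMap.ext fun a => by
      simp [sec, pr])
  haveI : Module.Free R (A i) := Module.free_of_flat_of_isLocalRing
  have hinj : Function.Injective (algebraMap R (A i)) := by
    haveI : FaithfulSMul R (A i) := inferInstance
    exact FaithfulSMul.algebraMap_injective R (A i)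
  let eA : R ≃ₐ[R] A i := AlgEquiv.ofBijective (Algebra.ofId R (A i)) ⟨hinj, hsur⟩
  refine ⟨eA.symm.toAlgHom.comp (pr i), fun b hb => hi ?_⟩
  exact eA.symm.injective ((RingHom.mem_ker.1 hb).trans (map_zero eA.symm).symm)

/-- A point in the closed fibre of a finite étale scheme over a strictly henselian ring lifts to a section. -/
theorem exists_section (R : Type u) [CommRing R] [HenselianLocalRing R] [IsSepClosed (IsLocalRing.ResidueField R)]
    {Z : Scheme.{u}} (w : Z ⟶ Spec (CommRingCat.of R)) [IsFinite w] [Etale w] (z : Z)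
    (hz : w z = IsLocalRing.closedPoint R) :
    ∃ s : Spec (CommRingCat.of R) ⟶ Z, s ≫ w = 𝟙 _ ∧ s (IsLocalRing.closedPoint R) = z ∧ IsOpenImmersion s := by
  haveI : IsAffine Z := isAffine_of_isAffineHom w
  obtain ⟨φ, hφ⟩ := Spec.map_surjective (Z.isoSpec.inv ≫ w)
  letI : Algebra R Γ(Z, ⊤) := φ.hom.toAlgebra
  haveI : IsFinite (Spec.map φ) := by rw [hφ]; infer_instance
  haveI : Etale (Spec.map φ) := by rw [hφ]; infer_instance
  haveI : Module.Finite R Γ(Z, ⊤) := (IsFinite.SpecMap_iff φ).1 inferInstance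
  haveI : Algebra.Etale R Γ(Z, ⊤) := (HasRingHomProperty.Spec_iff (P := @Etale)).1 ‹Etale (Spec.map φ)›
  let q : PrimeSpectrum Γ(Z, ⊤) := Z.isoSpec.hom z
  have hq : Spec.map φ q = IsLocalRing.closedPoint R := by
    rw [hφ, ← hz, ← Scheme.Hom.comp_apply, Iso.hom_inv_id_assoc]
  obtain ⟨π, hπ⟩ := exists_retraction R Γ(Z, ⊤) q (congrArg PrimeSpectrum.asIdeal hq)
  let s : Spec (CommRingCat.of R) ⟶ Z := Spec.map (CommRingCat.ofHom π.toRingHom) ≫ Z.isoSpec.inv
  have hs : s ≫ w = 𝟙 _ := by
    rw [Category.assoc, ← hφ, ← Spec.map_comp, ← Spec.map_id]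
    congr 1
    ext r
    exact π.commutes r
  refine ⟨s, hs, ?_, FFDescLib.isOpenImmersion_of_section w s hs⟩
  have h1 : Spec.map (CommRingCat.ofHom π.toRingHom) (IsLocalRing.closedPoint R) = q := by
    refine PrimeSpectrum.ext (le_antisymm (fun b hb => ?_) fun b hb => ?_)
    · by_contra hbq
      have hb1 : π b ∈ IsLocalRing.maximalIdeal R := hb
      have hb2 : b - algebraMap R _ (π b) ∈ q.asIdeal := hπ (by simp [RingHom.mem_ker])
      have hb3 : algebraMap R Γ(Z, ⊤) (π b) ∈ q.asIdeal := (congrArg PrimeSpectrum.asIdeal hq).ge hb1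
      exact hbq (by simpa using q.asIdeal.add_mem hb2 hb3)
    · have hb2 : b - algebraMap R _ (π b) ∈ q.asIdeal := hπ (by simp [RingHom.mem_ker])
      have hb3 : algebraMap R Γ(Z, ⊤) (π b) ∈ q.asIdeal := by simpa using q.asIdeal.sub_mem hb hb2
      exact (congrArg PrimeSpectrum.asIdeal hq).le hb3
  show Z.isoSpec.inv (Spec.map (CommRingCat.ofHom π.toRingHom) (IsLocalRing.closedPoint R)) = z
  rw [h1]
  show Z.isoSpec.inv (Z.isoSpec.hom z) = z
  rw [← Scheme.Hom.comp_apply, Iso.hom_inv_id]
  rfl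

/-- A nonempty closed set has a point without proper generizations in it. -/
theorem exists_maximal_point {X : Scheme.{u}} {E : Set X} (hE : IsClosed E) (hne : E.Nonempty) :
    ∃ x ∈ E, ∀ y ∈ E, y ⤳ x → y = x := by
  obtain ⟨a, ha⟩ := hne
  haveI : QuasiSober E := hE.isClosedEmbedding_subtypeVal.quasiSober
  let hW : IsIrreducible (irreducibleComponent (⟨a, ha⟩ : E)) := isIrreducible_irreducibleComponent
  let g : E := hW.genericPoint
  have hg : closure {g} = irreducibleComponent (⟨a, ha⟩ : E) :=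
    hW.isGenericPoint_genericPoint isClosed_irreducibleComponent
  refine ⟨g.1, g.2, fun y hy hyg => ?_⟩
  have h1 : (⟨y, hy⟩ : E) ⤳ g := (subtype_specializes_iff _ _).2 hyg
  have h2 : closure {(⟨y, hy⟩ : E)} ⊆ irreducibleComponent (⟨a, ha⟩ : E) :=
    (irreducibleComponent_mem_irreducibleComponents _).2 isIrreducible_singleton.closure
      (hg ▸ specializes_iff_closure_subset.1 h1)
  have h3 : g ⤳ (⟨y, hy⟩ : E) := specializes_iff_closure_subset.2 (hg ▸ h2)
  exact congrArg Subtype.val (h1.antisymm h3).eq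

/-- The points of `X` outside `U` have connected punctured strict henselizations. -/
def ConnPunct {X : Scheme.{u}} (U : X.Opens) : Prop :=
  ∀ x : X, x ∉ U → ∀ (R : Type u) [CommRing R] [IsLocalRing R] [Algebra (X.presheaf.stalk x) R]
    [IsLocalHom (algebraMap (X.presheaf.stalk x) R)] [Hensel.IsStrictHenselization (X.presheaf.stalk x) R],
    ConnectedSpace (FEt.puncturedSpec R : Scheme.{u})

/-- Two closed sets covering a finite étale scheme and separated over `U` are disjoint. -/
theorem inter_eq_empty {X Z : Scheme.{u}} (f : Z ⟶ X) [IsFinite f] [Etale f] {U : X.Opens} (hsh : ConnPunct U)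
    {C D : Set Z} (hC : IsClosed C) (hD : IsClosed D) (hcov : C ∪ D = Set.univ)
    (hU : ∀ z ∈ C ∩ D, f z ∉ U) (hgC : ∀ z ∈ C ∩ D, ∃ y ∈ C, y ⤳ z ∧ y ∉ D)
    (hgD : ∀ z ∈ C ∩ D, ∃ y ∈ D, y ⤳ z ∧ y ∉ C) : C ∩ D = ∅ := by
  by_contra hne
  obtain ⟨x, ⟨z, hz, rfl⟩, hmax⟩ := exists_maximal_point (E := f '' (C ∩ D))
    (f.isClosedMap _ (hC.inter hD)) ((Set.nonempty_iff_ne_empty.2 hne).image f)
  let A := X.presheaf.stalk (f z)
  let R := HenselLib.SH A
  have hR : Hensel.IsStrictHenselization A R := inferInstance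
  haveI := hR.henselian
  haveI : IsSepClosed (IsLocalRing.ResidueField R) := hR.isSepClosure.sep_closed
  haveI hconn := hsh (f z) (hU z hz) R
  haveI : Module.FaithfullyFlat A R := Groth.Agent.S0539.result A R
  let φ : Spec (CommRingCat.of R) ⟶ X := Spec.map (CommRingCat.ofHom (algebraMap A R)) ≫ X.fromSpecStalk (f z)
  haveI : Flat (Spec.map (CommRingCat.ofHom (algebraMap A R))) := by
    rw [HasRingHomProperty.Spec_iff (P := @Flat), CommRingCat.hom_ofHom, RingHom.flat_algebraMap_iff]
    infer_instance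
  haveI := AlgSpLib.flat_fromSpecStalk (f z)
  haveI : Flat φ := MorphismProperty.comp_mem @Flat _ _ inferInstance inferInstance
  have hφ0 : φ (IsLocalRing.closedPoint R) = f z := by
    show X.fromSpecStalk (f z) (Spec.map (CommRingCat.ofHom (algebraMap A R)) (IsLocalRing.closedPoint R)) = f z
    rw [show Spec.map (CommRingCat.ofHom (algebraMap A R)) (IsLocalRing.closedPoint R) = IsLocalRing.closedPoint A from
      IsLocalRing.comap_closedPoint (algebraMap A R)]
    exact Scheme.fromSpecStalk_closedPoint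
  have hφmax : ∀ t, φ t = f z → t = IsLocalRing.closedPoint R := fun t ht => by
    have h1 : Spec.map (CommRingCat.ofHom (algebraMap A R)) t = IsLocalRing.closedPoint A :=
      (X.fromSpecStalk (f z)).isEmbedding.injective (ht.trans Scheme.fromSpecStalk_closedPoint.symm)
    refine PrimeSpectrum.ext (le_antisymm (IsLocalRing.le_maximalIdeal t.isPrime.ne_top) ?_)
    show IsLocalRing.maximalIdeal R ≤ _
    rw [← Groth.Agent.S0538.result A R, Ideal.map_le_iff_le_comap]
    exact (congrArg PrimeSpectrum.asIdeal h1).ge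
  obtain ⟨z', hz'1, hz'2⟩ := Scheme.Pullback.exists_preimage_pullback (f := f) (g := φ) z
    (IsLocalRing.closedPoint R) hφ0.symm
  haveI : IsFinite (pullback.snd f φ) := MorphismProperty.pullback_snd _ _ ‹IsFinite f›
  haveI : Etale (pullback.snd f φ) := MorphismProperty.pullback_snd _ _ ‹Etale f›
  obtain ⟨s, hs, hsz, hso⟩ := exists_section R (pullback.snd f φ) z' hz'2
  haveI := hso
  haveI : Flat (pullback.fst f φ) := MorphismProperty.pullback_fst _ _ ‹Flat φ›
  let q : Spec (CommRingCat.of R) ⟶ Z := s ≫ pullback.fst f φ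
  haveI : Flat q := MorphismProperty.comp_mem @Flat _ _ inferInstance inferInstance
  have hqz : q (IsLocalRing.closedPoint R) = z := by
    rw [Scheme.Hom.comp_apply, hsz, hz'1]
  have hqf : q ≫ f = φ := by rw [Category.assoc, pullback.condition, reassoc_of% hs]
  let ιP := (FEt.puncturedSpec R).ι
  let C' : Set (FEt.puncturedSpec R : Scheme.{u}) := (ιP ≫ q) ⁻¹' C
  let D' : Set (FEt.puncturedSpec R : Scheme.{u}) := (ιP ≫ q) ⁻¹' D
  have hdis : C' ∩ D' = ∅ := Set.eq_empty_of_forall_notMem fun t ⟨htC, htD⟩ => by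
    have hspec : (ιP t : Spec (CommRingCat.of R)) ⤳ IsLocalRing.closedPoint R :=
      IsLocalRing.specializes_closedPoint _
    have h1 : φ (ιP t) = f z := hmax _ ⟨q (ιP t), ⟨htC, htD⟩, by rw [← Scheme.Hom.comp_apply, hqf]⟩
      ((hspec.map φ.continuous).trans (specializes_of_eq hφ0))
    exact t.2 (hφmax _ h1)
  have hlift : ∀ y, y ⤳ z → y ≠ z → ∃ t : (FEt.puncturedSpec R : Scheme.{u}), (ιP ≫ q) t = y := fun y hy hyz => by
    rw [← hqz] at hy
    obtain ⟨t, -, ht⟩ := (Flat.generalizingMap q) hy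
    refine ⟨⟨t, fun h => hyz ?_⟩, ht⟩
    rw [← ht, show t = IsLocalRing.closedPoint R from h, hqz]
  obtain ⟨y, hy, hyz, hyD⟩ := hgC z hz
  obtain ⟨y', hy', hy'z, hy'C⟩ := hgD z hz
  obtain ⟨t, ht⟩ := hlift y hyz fun h => hyD (h ▸ hz.2)
  obtain ⟨t', ht'⟩ := hlift y' hy'z fun h => hy'C (h ▸ hz.1)
  have hC' : IsClosed C' := hC.preimage (ιP ≫ q).continuous
  have hD' : IsClosed D' := hD.preimage (ιP ≫ q).continuous
  have hCo : IsOpen C' := by
    have : C' = D'ᶜ := Set.ext fun a => ⟨fun h h' => (Set.eq_empty_iff_forall_notMem.1 hdis a) ⟨h, h'⟩,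
      fun h => ((Set.ext_iff.1 hcov ((ιP ≫ q) a)).2 trivial).resolve_right h⟩
    rw [this]; exact hD'.isOpen_compl
  haveI := hconn
  rcases isClopen_iff.1 (⟨hC', hCo⟩ : IsClopen C') with h | h
  · exact (Set.eq_empty_iff_forall_notMem.1 h t) (show (ιP ≫ q) t ∈ C from ht ▸ hy)
  · exact hy'C (ht' ▸ (show (ιP ≫ q) t' ∈ C from (h ▸ Set.mem_univ t' : t' ∈ C')))

end ConnInfLib
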