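import Groth.Agent.ConnInfLib.Basic
import Mathlib.AlgebraicGeometry.Morphisms.FlatMono

/-! # Restriction of finite étale covers to an open with connected punctured strict henselizations outside -/

set_option autoImplicit false
set_option linter.style.haveILetI false
set_option backward.isDefEq.respectTransparency false
set_option backward.isDefEq.respectTransparency.types false
set_option maxHeartbeats 1000000

universe u

open CategoryTheory hiding IsConnected
open CategoryTheory.Limits AlgebraicGeometry TopologicalSpace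

noncomputable section

namespace ConnInfLib

variable {X : Scheme.{u}}

/-- Over `X` closures of pieces of the preimage of `U` consist of specializations. -/
def ClosSpec (U : X.Opens) : Prop :=
  ∀ {Z : Scheme.{u}} (f : Z ⟶ X), IsFinite f → Etale f → ∀ C₀ : Set Z, IsOpen C₀ → C₀ ⊆ f ⁻¹' U →
    closure C₀ ∩ f ⁻¹' U ⊆ C₀ → ∀ z ∈ closure C₀, ∃ y ∈ C₀, y ⤳ z

theorem closSpec_of_quasiCompact (U : X.Opens) [QuasiCompact U.ι] : ClosSpec U := by
  intro Z f _ _ C₀ _ hsub hcl z hz
  haveI : QuasiCompact (f ⁻¹ᵁ U).ι := by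
    rw [← pullbackRestrictIsoRestrict_inv_fst f U]
    haveI : QuasiCompact (pullback.fst f U.ι) := MorphismProperty.pullback_fst _ _ ‹QuasiCompact U.ι›
    infer_instance
  let s : Set (f ⁻¹ᵁ U).toScheme := (f ⁻¹ᵁ U).ι ⁻¹' C₀
  have hs : IsClosed s := by
    have : s = (f ⁻¹ᵁ U).ι ⁻¹' closure C₀ := Set.ext fun a => ⟨fun h => subset_closure h, fun h => hcl ⟨h, a.2⟩⟩
    rw [this]; exact isClosed_closure.preimage (f ⁻¹ᵁ U).ι.continuous
  have himg : (f ⁻¹ᵁ U).ι '' s = C₀ := by
    refine Set.image_preimage_eq_of_subset fun c hc => ?_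
    rw [Scheme.Opens.range_ι]; exact hsub hc
  obtain ⟨a, ha, h⟩ := FFDescLib.exists_specializes_of_mem_closure_image (f ⁻¹ᵁ U).ι hs (y := z) (by rwa [himg])
  exact ⟨_, ha, h⟩

theorem closSpec_of_finite_components {U : X.Opens} (hU : Dense (U : Set X))
    (hirr : ∀ V : X.Opens, IsCompact (V : Set X) → (irreducibleComponents ↥V).Finite) : ClosSpec U := by
  intro Z f hf het C₀ hopen hsub hcl z hz
  haveI := hf
  haveI := het
  have hWd : Dense (f ⁻¹' (U : Set X)) := hU.preimage f.isOpenMap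
  obtain ⟨V, hV, hzV, -⟩ := exists_isAffineOpen_mem_and_subset (x := f z) (U := ⊤) trivial
  let M : Set Z := {g | f g ∈ V ∧ ∀ y, y ⤳ g → y = g}
  have hM : M.Finite := by
    let N : Set X := {x | x ∈ V ∧ ∀ y, y ⤳ x → y = x}
    have hN : N.Finite := by
      have hfin := hirr V hV.isCompact
      let c : N → irreducibleComponents ↥V := fun x => ⟨closure {(⟨x.1, x.2.1⟩ : V)}, by
        refine ⟨isIrreducible_singleton.closure, fun W hW hle => ?_⟩
        haveI : QuasiSober ↥V := inferInstanceAs (QuasiSober V.toScheme)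
        have h1 : closure {hW.genericPoint} = closure W := hW.genericPoint_closure_eq
        have h2 : hW.genericPoint ⤳ (⟨x.1, x.2.1⟩ : V) := by
          rw [specializes_iff_mem_closure, h1]
          exact subset_closure (hle (subset_closure rfl))
        have h3 : hW.genericPoint = (⟨x.1, x.2.1⟩ : V) :=
          Subtype.ext (x.2.2 _ (h2.map continuous_subtype_val))
        rw [← h3, h1]
        exact subset_closure⟩
      haveI := hfin.to_subtype
      refine Set.finite_coe_iff.1 (Finite.of_injective c fun a b h => ?_)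
      have h1 : closure {(⟨a.1, a.2.1⟩ : V)} = closure {(⟨b.1, b.2.1⟩ : V)} := congrArg Subtype.val h
      exact Subtype.ext (congrArg Subtype.val (IsGenericPoint.eq (S := closure {(⟨b.1, b.2.1⟩ : V)}) h1 isGenericPoint_closure) : _)
    refine (hN.biUnion fun x _ => f.finite_preimage_singleton x).subset fun g hg => ?_
    refine Set.mem_biUnion (x := f g) ⟨hg.1, fun y hy => ?_⟩ rfl
    obtain ⟨g', hg', h⟩ := Flat.generalizingMap f hy
    rw [← h, hg.2 g' hg']
  have hgen : ∀ c ∈ C₀, f c ∈ V → ∃ g ∈ M ∩ C₀, g ⤳ c := fun c hc hcV => by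
    let W : Set Z := irreducibleComponent c
    have hW : IsIrreducible W := isIrreducible_irreducibleComponent
    have hg := hW.isGenericPoint_genericPoint isClosed_irreducibleComponent
    let g := hW.genericPoint
    have hgc : g ⤳ c := hg.specializes mem_irreducibleComponent
    have hmax : ∀ y, y ⤳ g → y = g := fun y hy => by
      have h2 : closure {y} ⊆ W := (irreducibleComponent_mem_irreducibleComponents c).2 isIrreducible_singleton.closure
        (hg.def.ge.trans (specializes_iff_closure_subset.1 hy))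
      exact (hy.antisymm (hg.specializes (h2 (subset_closure rfl)))).eq
    refine ⟨g, ⟨⟨(hgc.map f.continuous).mem_open V.2 hcV, hmax⟩, hgc.mem_open hopen hc⟩, hgc⟩
  have hz' : z ∈ closure (⋃ g ∈ M ∩ C₀, closure {g}) := by
    refine closure_mono ?_ (mem_closure_iff_nhds.2 fun t ht => ?_ : z ∈ closure (C₀ ∩ f ⁻¹' (V : Set X)))
    · rintro c ⟨hc, hcV⟩
      obtain ⟨g, hg, hgc⟩ := hgen c hc hcV
      exact Set.mem_biUnion hg (specializes_iff_mem_closure.1 hgc)
    · obtain ⟨a, ⟨ha, haV⟩, haC⟩ := mem_closure_iff_nhds.1 hz _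
        (Filter.inter_mem ht ((V.2.preimage f.continuous).mem_nhds hzV))
      exact ⟨a, ha, haC, haV⟩
  rw [((hM.inter_of_left C₀).isClosed_biUnion fun g _ => isClosed_closure).closure_eq] at hz'
  obtain ⟨g, hg, hgz⟩ := Set.mem_iUnion₂.1 hz'
  exact ⟨g, hg.2, specializes_iff_mem_closure.2 hgz⟩

/-- A piece of the preimage of `U` has open and closed closure. -/
theorem isClopen_closure {U : X.Opens} (hU : Dense (U : Set X)) (hs : ClosSpec U) (hsh : ConnPunct U)
    {Z : Scheme.{u}} (f : Z ⟶ X) [IsFinite f] [Etale f] {C₀ D₀ : Set Z} (hC : IsOpen C₀) (hD : IsOpen D₀)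
    (hu : C₀ ∪ D₀ = f ⁻¹' U) (hd : Disjoint C₀ D₀) : IsClopen (closure C₀) := by
  have hclC : closure C₀ ∩ f ⁻¹' U ⊆ C₀ := fun a ⟨ha, haU⟩ => by
    rcases hu.ge haU with h | h
    · exact h
    · exact absurd h (Set.disjoint_left.1 (hd.closure_left hD) ha)
  have hclD : closure D₀ ∩ f ⁻¹' U ⊆ D₀ := fun a ⟨ha, haU⟩ => by
    rcases hu.ge haU with h | h
    · exact absurd h (Set.disjoint_left.1 (hd.symm.closure_left hC) ha)
    · exact h
  have hcov : closure C₀ ∪ closure D₀ = Set.univ := by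
    rw [← closure_union, hu]; exact (hU.preimage f.isOpenMap).closure_eq
  have h0 := inter_eq_empty f hsh isClosed_closure isClosed_closure hcov
    (fun z hz hzU => Set.disjoint_left.1 hd (hclC ⟨hz.1, hzU⟩) (hclD ⟨hz.2, hzU⟩))
    (fun z hz => by
      obtain ⟨y, hy, hyz⟩ := hs f inferInstance inferInstance C₀ hC (hu ▸ Set.subset_union_left) hclC z hz.1
      exact ⟨y, subset_closure hy, hyz,
        fun h => Set.disjoint_left.1 hd hy (hclD ⟨h, hu.le (Or.inl hy)⟩)⟩)
    (fun z hz => by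
      obtain ⟨y, hy, hyz⟩ := hs f inferInstance inferInstance D₀ hD (hu ▸ Set.subset_union_right) hclD z hz.2
      exact ⟨y, subset_closure hy, hyz,
        fun h => Set.disjoint_left.1 hd (hclC ⟨h, hu.le (Or.inr hy)⟩) hy⟩)
  refine ⟨isClosed_closure, ?_⟩
  have : closure C₀ = (closure D₀)ᶜ := Set.ext fun a => ⟨fun h h' => (Set.eq_empty_iff_forall_notMem.1 h0 a) ⟨h, h'⟩,
    fun h => ((Set.ext_iff.1 hcov a).2 trivial).resolve_right h⟩
  rw [this]
  exact isClosed_closure.isOpen_compl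

/-- Two maps to a finite étale cover agreeing over a dense open agree. -/
theorem ext_of_dense {Y Z : Scheme.{u}} (z : Z ⟶ X) [IsFinite z] [Etale z] {W : Y.Opens} (hW : Dense (W : Set Y))
    (a b : Y ⟶ Z) (hab : a ≫ z = b ≫ z) (h : W.ι ≫ a = W.ι ≫ b) : a = b := by
  let l : Y ⟶ pullback z z := pullback.lift a b hab
  have hl : Set.range l ⊆ Set.range (pullback.diagonal z) := by
    rintro _ ⟨t, rfl⟩
    have hsub : (W : Set Y) ⊆ l ⁻¹' Set.range (pullback.diagonal z) := fun w hw => by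
      refine ⟨a w, ?_⟩
      have : W.ι ≫ a ≫ pullback.diagonal z = W.ι ≫ l := by
        apply pullback.hom_ext <;> simp [l, h]
      exact congrArg (fun k => k ⟨w, hw⟩) this
    exact closure_minimal hsub ((pullback.diagonal z).isClosedEmbedding.isClosed_range.preimage l.continuous)
      (hW.closure_eq.ge trivial)
  let k := IsOpenImmersion.lift (pullback.diagonal z) l hl
  have hk : k ≫ pullback.diagonal z = l := IsOpenImmersion.lift_fac _ _ _
  have h1 := congrArg (· ≫ pullback.fst z z) hk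
  have h2 := congrArg (· ≫ pullback.snd z z) hk
  simp only [l, Category.assoc, pullback.diagonal_fst, pullback.diagonal_snd, Category.comp_id,
    pullback.lift_fst, pullback.lift_snd] at h1 h2
  exact h1.symm.trans h2

/-- A finite étale map which is an isomorphism over a dense open is an isomorphism. -/
theorem isIso_of_dense {Y T : Scheme.{u}} (g : T ⟶ Y) [IsFinite g] [Etale g] {W : Y.Opens} (hW : Dense (W : Set Y))
    [IsIso (g ∣_ W)] : IsIso g := by
  have hmono : Mono g := ⟨fun {S} a b hab => by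
    let k := pullback.lift a b hab
    have hd : Dense ((g ⁻¹ᵁ W) : Set T) := hW.preimage g.isOpenMap
    have hWd : Dense (((pullback.fst g g ≫ g) ⁻¹ᵁ W : (pullback g g).Opens) : Set ↥(pullback g g)) := by
      haveI : Etale (pullback.fst g g) := MorphismProperty.pullback_fst _ _ ‹Etale g›
      exact hW.preimage (pullback.fst g g ≫ g).isOpenMap
    have : pullback.fst g g = pullback.snd g g := by
      refine ext_of_dense g hWd _ _ pullback.condition ?_
      let W' := (pullback.fst g g ≫ g) ⁻¹ᵁ W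
      let a' : W'.toScheme ⟶ (g ⁻¹ᵁ W).toScheme :=
        IsOpenImmersion.lift (g ⁻¹ᵁ W).ι (W'.ι ≫ pullback.fst g g) (by
          rintro _ ⟨t, rfl⟩; rw [Scheme.Opens.range_ι]; exact t.2)
      let b' : W'.toScheme ⟶ (g ⁻¹ᵁ W).toScheme :=
        IsOpenImmersion.lift (g ⁻¹ᵁ W).ι (W'.ι ≫ pullback.snd g g) (by
          rintro _ ⟨t, rfl⟩; rw [Scheme.Opens.range_ι]
          show g (pullback.snd g g (W'.ι t)) ∈ W
          rw [← Scheme.Hom.comp_apply, ← pullback.condition]; exact t.2)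
      have : a' = b' := by
        rw [← cancel_mono (g ∣_ W), ← cancel_mono W.ι]
        simp only [Category.assoc, morphismRestrict_ι, a', b', IsOpenImmersion.lift_fac_assoc, pullback.condition]
      have := congrArg (· ≫ (g ⁻¹ᵁ W).ι) this
      simp only [a', b', IsOpenImmersion.lift_fac] at this
      exact this
    calc a = k ≫ pullback.fst g g := (pullback.lift_fst _ _ _).symm
      _ = k ≫ pullback.snd g g := by rw [this]
      _ = b := pullback.lift_snd _ _ _⟩
  haveI : IsOpenImmersion g := IsOpenImmersion.of_flat_of_mono g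
  haveI : Surjective g := ⟨Set.range_eq_univ.1 (Set.univ_subset_iff.1 (hW.closure_eq ▸
    closure_minimal (fun w hw => by
      obtain ⟨t, ht⟩ := (asIso (g ∣_ W)).hom.surjective ⟨w, hw⟩
      exact ⟨t.1, by simpa [morphismRestrict_base] using congrArg Subtype.val ht⟩) g.isClosedMap.isClosed_range))⟩
  exact (isIso_iff_isOpenImmersion_and_surjective g).2 ⟨inferInstance, inferInstance⟩

theorem faithful {U : X.Opens} (hU : Dense (U : Set X)) : (FEt.restrict U.ι).Faithful := ⟨fun {Y₁ Y₂} a b h => by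
  let y₁ : Y₁.left ⟶ X := Y₁.hom
  let y₂ : Y₂.left ⟶ X := Y₂.hom
  haveI : Etale y₁ := Y₁.prop.2
  haveI : IsFinite y₂ := Y₂.prop.1
  haveI : Etale y₂ := Y₂.prop.2
  apply MorphismProperty.Over.Hom.ext
  have ha : a.left ≫ y₂ = y₁ := MorphismProperty.Over.w a
  have hb : b.left ≫ y₂ = y₁ := MorphismProperty.Over.w b
  refine ext_of_dense y₂ (W := y₁ ⁻¹ᵁ U) (hU.preimage y₁.isOpenMap) _ _ (ha.trans hb.symm) ?_
  have h1 := congrArg (fun k => k.left ≫ pullback.fst y₂ U.ι) h
  have hfa : ((FEt.restrict U.ι).map a).left ≫ pullback.fst y₂ U.ι = pullback.fst y₁ U.ι ≫ a.left :=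
    pullback.lift_fst _ _ _
  have hfb : ((FEt.restrict U.ι).map b).left ≫ pullback.fst y₂ U.ι = pullback.fst y₁ U.ι ≫ b.left :=
    pullback.lift_fst _ _ _
  rw [hfa, hfb] at h1
  rw [← pullbackRestrictIsoRestrict_inv_fst y₁ U, Category.assoc, Category.assoc, h1]⟩

theorem full {U : X.Opens} (hU : Dense (U : Set X)) (hs : ClosSpec U) (hsh : ConnPunct U) :
    (FEt.restrict U.ι).Full := ⟨fun {Y₁ Y₂} φ => by
  let y₁ : Y₁.left ⟶ X := Y₁.hom
  let y₂ : Y₂.left ⟶ X := Y₂.hom
  haveI : IsFinite y₁ := Y₁.prop.1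
  haveI : Etale y₁ := Y₁.prop.2
  haveI : IsFinite y₂ := Y₂.prop.1
  haveI : Etale y₂ := Y₂.prop.2
  haveI : IsFinite (pullback.fst y₁ y₂) := MorphismProperty.pullback_fst _ _ ‹IsFinite y₂›
  haveI : Etale (pullback.fst y₁ y₂) := MorphismProperty.pullback_fst _ _ ‹Etale y₂›
  let p : pullback y₁ y₂ ⟶ X := pullback.fst y₁ y₂ ≫ y₁
  haveI : IsFinite p := MorphismProperty.comp_mem @IsFinite _ _ inferInstance inferInstance
  haveI : Etale p := MorphismProperty.comp_mem @Etale _ _ inferInstance inferInstance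
  let W₁ := y₁ ⁻¹ᵁ U
  let P₀ : (pullback y₁ y₂).Opens := pullback.fst y₁ y₂ ⁻¹ᵁ W₁
  let v : W₁.toScheme ⟶ Y₂.left := (pullbackRestrictIsoRestrict y₁ U).inv ≫ φ.left ≫ pullback.fst y₂ U.ι
  have hv : W₁.ι ≫ y₁ = v ≫ y₂ := by
    have h1 : φ.left ≫ pullback.snd y₂ U.ι = pullback.snd y₁ U.ι := MorphismProperty.Over.w φ
    simp only [v, Category.assoc, pullback.condition, reassoc_of% h1]
    rw [← pullbackRestrictIsoRestrict_inv_fst y₁ U, Category.assoc, pullback.condition]
  let γ : W₁.toScheme ⟶ pullback y₁ y₂ := pullback.lift W₁.ι v hv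
  have hγ : Set.range γ ⊆ P₀ := by
    rintro _ ⟨t, rfl⟩
    show pullback.fst y₁ y₂ (γ t) ∈ W₁
    rw [← Scheme.Hom.comp_apply, pullback.lift_fst]; exact t.2
  let γ₀ : W₁.toScheme ⟶ P₀.toScheme := IsOpenImmersion.lift P₀.ι γ (by rw [Scheme.Opens.range_ι]; exact hγ)
  have hγ₀ : γ₀ ≫ (pullback.fst y₁ y₂ ∣_ W₁) = 𝟙 _ := by
    rw [← cancel_mono W₁.ι, Category.assoc, morphismRestrict_ι, IsOpenImmersion.lift_fac_assoc, pullback.lift_fst,
      Category.id_comp]
  haveI : IsOpenImmersion γ₀ := FFDescLib.isOpenImmersion_of_section _ γ₀ hγ₀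
  haveI : IsClosedImmersion γ₀ := by
    haveI : IsClosedImmersion (γ₀ ≫ (pullback.fst y₁ y₂ ∣_ W₁)) := by rw [hγ₀]; infer_instance
    exact IsClosedImmersion.of_comp γ₀ (pullback.fst y₁ y₂ ∣_ W₁)
  have hrange : Set.range γ = P₀.ι '' Set.range γ₀ := by
    rw [← Set.range_comp]
    exact congrArg (fun k : W₁.toScheme ⟶ pullback y₁ y₂ => Set.range k) (show γ = γ₀ ≫ P₀.ι by simp only [γ₀, IsOpenImmersion.lift_fac])
  have hC : IsOpen (Set.range γ) := hrange ▸ P₀.ι.isOpenEmbedding.isOpenMap _ γ₀.isOpenEmbedding.isOpen_range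
  have hD : IsOpen ((P₀ : Set ↥(pullback y₁ y₂)) \ Set.range γ) := by
    have : (P₀ : Set ↥(pullback y₁ y₂)) \ Set.range γ = P₀.ι '' (Set.range γ₀)ᶜ := by
      rw [Set.image_compl_eq_range_sdiff_image P₀.ι.isOpenEmbedding.injective, Scheme.Opens.range_ι, hrange]
    rw [this]
    exact P₀.ι.isOpenEmbedding.isOpenMap _ γ₀.isClosedEmbedding.isClosed_range.isOpen_compl
  have hclo := isClopen_closure hU hs hsh p hC hD (by
    rw [Set.union_sdiff_cancel hγ]; rfl) Set.disjoint_sdiff_right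
  let O : (pullback y₁ y₂).Opens := ⟨closure (Set.range γ), hclo.2⟩
  let g : O.toScheme ⟶ Y₁.left := O.ι ≫ pullback.fst y₁ y₂
  haveI : IsClosedImmersion O.ι := IsClosedImmersion.of_isPreimmersion _ (by rw [Scheme.Opens.range_ι]; exact hclo.1)
  haveI : IsFinite g := MorphismProperty.comp_mem @IsFinite _ _ inferInstance inferInstance
  haveI : Etale g := MorphismProperty.comp_mem @Etale _ _ inferInstance inferInstance
  have hd₁ : Dense (W₁ : Set Y₁.left) := hU.preimage y₁.isOpenMap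
  let σ₀ : W₁.toScheme ⟶ O.toScheme := IsOpenImmersion.lift O.ι γ (by
    rw [Scheme.Opens.range_ι]; exact subset_closure)
  let σ : W₁.toScheme ⟶ (g ⁻¹ᵁ W₁).toScheme := IsOpenImmersion.lift (g ⁻¹ᵁ W₁).ι σ₀ (by
    rintro _ ⟨t, rfl⟩
    rw [Scheme.Opens.range_ι]
    show g (σ₀ t) ∈ W₁
    rw [← Scheme.Hom.comp_apply, show σ₀ ≫ g = W₁.ι by simp [σ₀, g, γ]]
    exact t.2)
  have hσ : σ ≫ (g ∣_ W₁) = 𝟙 _ := by
    rw [← cancel_mono W₁.ι, Category.assoc, morphismRestrict_ι, IsOpenImmersion.lift_fac_assoc, Category.id_comp]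
    simp [σ₀, g, γ]
  haveI : IsOpenImmersion σ := FFDescLib.isOpenImmersion_of_section _ σ hσ
  haveI : Surjective σ := ⟨fun t => by
    have ht : O.ι t.1 ∈ closure (Set.range γ) ∩ (p ⁻¹' (U : Set X)) := ⟨t.1.2, t.2⟩
    have hγt : O.ι t.1 ∈ Set.range γ := by
      by_contra h
      exact Set.disjoint_left.1 ((Set.disjoint_sdiff_right).closure_left hD) ht.1 ⟨t.2, h⟩
    obtain ⟨w, hw⟩ := hγt
    refine ⟨w, (g ⁻¹ᵁ W₁).ι.isOpenEmbedding.injective (O.ι.isOpenEmbedding.injective ?_)⟩
    simp only [← Scheme.Hom.comp_apply, σ, σ₀, IsOpenImmersion.lift_fac_assoc, IsOpenImmersion.lift_fac]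
    exact hw⟩
  haveI : IsIso σ := (isIso_iff_isOpenImmersion_and_surjective σ).2 ⟨inferInstance, inferInstance⟩
  haveI : IsIso (g ∣_ W₁) := by
    haveI : IsIso (σ ≫ (g ∣_ W₁)) := by rw [hσ]; infer_instance
    exact IsIso.of_isIso_comp_left σ _
  haveI : IsIso g := isIso_of_dense g hd₁
  let ψ : Y₁.left ⟶ Y₂.left := inv g ≫ O.ι ≫ pullback.snd y₁ y₂
  have hψ : ψ ≫ y₂ = y₁ := by
    simp [ψ, g, ← pullback.condition]
  refine ⟨MorphismProperty.Over.homMk ψ hψ, ?_⟩
  apply MorphismProperty.Over.Hom.ext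
  show pullback.lift (pullback.fst y₁ U.ι ≫ ψ) (pullback.snd y₁ U.ι) _ = φ.left
  apply pullback.hom_ext
  · rw [pullback.lift_fst, ← cancel_epi (pullbackRestrictIsoRestrict y₁ U).inv,
      pullbackRestrictIsoRestrict_inv_fst_assoc]
    show W₁.ι ≫ ψ = v
    have h1 : W₁.ι ≫ inv g = σ₀ := by
      rw [IsIso.comp_inv_eq]; simp [σ₀, g, γ]
    simp [ψ, reassoc_of% h1, σ₀, γ]
  · rw [pullback.lift_snd]
    exact (MorphismProperty.Over.w φ).symm⟩

theorem fullyFaithful {U : X.Opens} (hU : Dense (U : Set X)) (hs : ClosSpec U) (hsh : ConnPunct U) :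
    (FEt.restrict U.ι).Full ∧ (FEt.restrict U.ι).Faithful := ⟨full hU hs hsh, faithful hU⟩

end ConnInfLib
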